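import Mathlib
import Cfsg.Prelude.Def_Classification2
import Cfsg.Agent.H73.Lay
import Cfsg.Agent.H73.SporBase
import Cfsg.Agent.H73.OddCent
import Cfsg.Agent.SignalizersComponents.Components
import Cfsg.Agent.SignalizersComponents.ComponentImage

/-!
# Counting the components of a group (helper73)

`CB n C` : the group `C` has at most `n` components.
-/

set_option autoImplicit false

open Cfsg Subgroup

namespace Cfsg.Agent.H73

open Cfsg.Agent.Lib Cfsg.Agent.SignalizersComponents Cfsg.Agent.SignalizersComponents.Components

/-- at most `n` components -/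
def CB (n : ℕ) (C : Type*) [Group C] : Prop := {K : Subgroup C | IsComponent K}.ncard ≤ n

theorem CB.mono {m n : ℕ} (hmn : m ≤ n) {C : Type*} [Group C] (h : CB m C) : CB n C := le_trans h hmn

theorem CB.congr {n : ℕ} {C D : Type*} [Group C] [Group D] (e : C ≃* D) (h : CB n C) : CB n D := by
  have h1 : {K : Subgroup D | IsComponent K} = (fun K : Subgroup C => K.map e.toMonoidHom) '' {K | IsComponent K} := by
    ext K
    constructor
    · intro hK
      refine ⟨K.map e.symm.toMonoidHom, isComponent_map_equiv e.symm hK, ?_⟩
      change (K.map e.symm.toMonoidHom).map e.toMonoidHom = K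
      rw [Subgroup.map_map]
      have h2 : e.toMonoidHom.comp e.symm.toMonoidHom = MonoidHom.id _ := by
        ext x
        simp
      rw [h2, Subgroup.map_id]
    · rintro ⟨K', hK', rfl⟩
      exact isComponent_map_equiv e hK'
  unfold CB
  rw [h1, Set.ncard_image_of_injective _ (Subgroup.map_injective e.injective)]
  exact h

/-- the components of a group covered by a family of normal subgroups with bounds -/
theorem cb_sum {C : Type*} [Group C] [Finite C] {ι : Type*} [Fintype ι] (F : ι → Subgroup C) (m : ι → ℕ)
    (hn : ∀ i, (F i).Normal) (hm : ∀ i, CB (m i) ↥(F i)) (hs : ∀ L : Subgroup C, ⁅L, L⁆ = L → L ≤ ⨆ i, F i) :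
    CB (∑ i, m i) C := by
  have h1 : {K : Subgroup C | IsComponent K} ⊆
      ⋃ i, (fun K : Subgroup ↥(F i) => K.map (F i).subtype) '' {K | IsComponent K} := by
    intro K hK
    by_contra hcon
    rw [Set.mem_iUnion] at hcon
    push Not at hcon
    have hK' : IsComponent K := hK
    have hc : ∀ i, ⁅K, F i⁆ = ⊥ := by
      intro i
      rcases component_le_or_commutator_eq_bot hK' (Subgroup.Normal.isSubnormal (hn i)) with h | h
      · exfalso
        apply hcon i
        refine ⟨K.subgroupOf (F i), isComponent_subgroupOf h hK', ?_⟩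
        change (K.subgroupOf (F i)).map (F i).subtype = K
        rw [subgroupOf_map_subtype, inf_eq_left.2 h]
      · exact h
    have h2 : ∀ i, F i ≤ centralizer (K : Set C) := by
      intro i
      rw [← commutator_eq_bot_iff_le_centralizer, commutator_comm]
      exact hc i
    have h3 : K ≤ centralizer (K : Set C) := (hs K (component_commutator_self hK')).trans (iSup_le h2)
    rw [← commutator_eq_bot_iff_le_centralizer, component_commutator_self hK'] at h3
    exact component_ne_bot hK' h3
  unfold CB
  refine (Set.ncard_le_ncard h1 (Set.toFinite _)).trans ((Set.ncard_iUnion_le_of_fintype _).trans ?_)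
  refine Finset.sum_le_sum fun i _ => ?_
  exact (Set.ncard_image_le (Set.toFinite _)).trans (hm i)

theorem cb_of_solvable {C : Type*} [Group C] (h : Group.IsSolvable C) (n : ℕ) : CB n C := by
  have h1 : {K : Subgroup C | IsComponent K} = ∅ := by
    rw [Set.eq_empty_iff_forall_notMem]
    intro K hK
    have h2 := Schreier.Basic.eq_bot_of_perfect_of_solvable (component_commutator_self hK) inferInstance
    exact component_ne_bot hK h2
  unfold CB
  rw [h1, Set.ncard_empty]
  exact Nat.zero_le _

theorem cb_of_none {C : Type*} [Group C] (h : ∀ K : Subgroup C, ¬ IsComponent K) (n : ℕ) : CB n C := by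
  have h1 : {K : Subgroup C | IsComponent K} = ∅ := by
    rw [Set.eq_empty_iff_forall_notMem]
    exact h
  unfold CB
  rw [h1, Set.ncard_empty]
  exact Nat.zero_le _

theorem cb_of_hasOne {C : Type*} [Group C] (h : HasOne C) : CB 1 C := by
  obtain ⟨K, hn, hq, hs⟩ := h
  have h1 : {L : Subgroup C | IsComponent L} = {K} := by
    ext L
    rw [Set.mem_setOf_eq, HasOne.component_iff hn hq hs]
    exact Iff.rfl
  unfold CB
  rw [h1, Set.ncard_singleton]

theorem OneComp.cb {C : Type*} [Group C] (h : OneComp C) : CB 1 C := by
  rcases h with h | h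
  · exact cb_of_none h 1
  · exact cb_of_hasOne h

theorem cb_of_quasisimple {C : Type*} [Group C] (h : IsQuasisimple C) : CB 1 C := by
  refine cb_of_hasOne ⟨⊤, inferInstance, isQuasisimple_of_mulEquiv Subgroup.topEquiv.symm h, ?_⟩
  have : Subsingleton (C ⧸ (⊤ : Subgroup C)) := QuotientGroup.subsingleton_quotient_top
  infer_instance

/-- a family of normal subgroups, each solvable or quasisimple -/
theorem cb_family {C : Type*} [Group C] [Finite C] {ι : Type*} [Fintype ι] (F : ι → Subgroup C)
    (hn : ∀ i, (F i).Normal) (hq : ∀ i, Group.IsSolvable ↥(F i) ∨ IsQuasisimple ↥(F i))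
    (hs : ∀ L : Subgroup C, ⁅L, L⁆ = L → L ≤ ⨆ i, F i) : CB (Fintype.card ι) C := by
  have h := cb_sum F (fun _ => 1) hn (fun i => by
    rcases hq i with h | h
    · exact cb_of_solvable h 1
    · exact cb_of_quasisimple h) hs
  simpa using h

/-! ### The format of the rows -/

/-- the centralisers of the involutions of `X` have at most `n` components -/
def RowN (n : ℕ) (X : Type*) [Group X] : Prop :=
  ∀ t : X, orderOf t = 2 → {K : Subgroup ↥(centralizer ({t} : Set X)) | IsComponent K}.ncard ≤ n

theorem RowN.congr {n : ℕ} {X Y : Type*} [Group X] [Group Y] (e : X ≃* Y) (h : RowN n X) : RowN n Y := by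
  intro t ht
  exact CB.congr (OC.centCongr e.symm t).symm (h (e.symm t) (by rw [MulEquiv.orderOf_eq]; exact ht))

theorem Row1.rowN {X : Type*} [Group X] (h : Row1 X) : RowN 1 X := fun t ht => (h t ht).cb

theorem RowN.mono {m n : ℕ} (hmn : m ≤ n) {X : Type*} [Group X] (h : RowN m X) : RowN n X :=
  fun t ht => (h t ht).trans hmn

/-- conjugate involutions -/
theorem cb_cent_conj {n : ℕ} {X : Type*} [Group X] {s : X} (h : CB n ↥(centralizer ({s} : Set X))) (g : X) :
    CB n ↥(centralizer ({g * s * g⁻¹} : Set X)) :=
  h.congr (OC.centCongr (MulAut.conj g) s)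

end Cfsg.Agent.H73
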