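import Mathlib
import Cfsg.Agent.H12.CompQ
import Cfsg.Agent.H73.NComp
import Cfsg.Agent.H73.Count
import Cfsg.Agent.H557.LrOrb
import Cfsg.Agent.CpAut.Base
import Cfsg.Agent.CpAut.Fix
import Cfsg.Agent.Schreier.Cases

/-!
# The perfect subgroups of the centralisers of involutions lie in the layer (helper73)

`pLayer` : the simple groups of Lie type of odd characteristic; `rowN_of_numLe`.
-/

set_option autoImplicit false

namespace Cfsg.Agent.H73.PLay

open Cfsg Subgroup
open Cfsg.Agent.Lib Cfsg.Agent.SignalizersComponents Cfsg.Agent.SignalizersComponents.Components Cfsg.Agent.Schreier.Basic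
open scoped commutatorElement

/-- a perfect group normalising all components and centralising the Fitting subgroup lies in the layer -/
theorem le_layer {X : Type*} [Group X] [Finite X] (K : Subgroup X) (hK : ⁅K, K⁆ = K)
    (hSch : ∀ L : Subgroup X, IsComponent L → Sch (L ⧸ Subgroup.center L))
    (hn : ∀ L : Subgroup X, IsComponent L → K ≤ normalizer (L : Set X))
    (hKF : K ≤ centralizer (fittingSubgroup X : Set X)) : K ≤ layer X := by
  have h1 : ∀ k ∈ K, ∃ e ∈ layer X, e⁻¹ * k ∈ generalizedFittingSubgroup X := by
    intro k hk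
    obtain ⟨e, he, hec⟩ := H12.CompQ.exists_inner_layer K hK hSch hn hk
    refine ⟨e, he, GenFitting.centralizer_genFitting_le ?_⟩
    rw [GenFitting.genFitting_def]
    have h2 : layer X ⊔ fittingSubgroup X ≤ centralizer ({e⁻¹ * k} : Set X) := by
      refine sup_le ?_ ?_
      · intro x hx
        rw [mem_centralizer_singleton_iff]
        exact mem_centralizer_iff.1 hec x hx
      · intro x hx
        rw [mem_centralizer_singleton_iff]
        have h3 : x * e = e * x :=
          (mem_centralizer_iff.1 (Components.layer_le_centralizer_fitting he)) x hx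
        have h4 : x * k = k * x := mem_centralizer_iff.1 (hKF hk) x hx
        have h5 : x * e⁻¹ = e⁻¹ * x := by
          rw [eq_inv_mul_iff_mul_eq, ← mul_assoc, ← h3, mul_assoc, mul_inv_cancel, mul_one]
        rw [← mul_assoc, h5, mul_assoc, h4, mul_assoc]
    rw [mem_centralizer_iff]
    intro x hx
    exact mem_centralizer_singleton_iff.1 (h2 hx)
  have h2 : K ≤ generalizedFittingSubgroup X := by
    intro k hk
    obtain ⟨e, he, hec⟩ := h1 k hk
    have : k = e * (e⁻¹ * k) := by group
    rw [this]
    exact mul_mem (GenFitting.layer_le_genFitting he) hec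
  rw [GenFitting.genFitting_def] at h2
  -- the quotient of `E F` by `E` is nilpotent
  have hEn : (layer X).Normal := Components.layer_normal X
  have hFn : Group.IsNilpotent ↥(fittingSubgroup X) := Cores.fittingSubgroup_isNilpotent
  have h3 : K.map (QuotientGroup.mk' (layer X)) ≤ (fittingSubgroup X).map (QuotientGroup.mk' (layer X)) := by
    rw [map_le_iff_le_comap]
    refine h2.trans (sup_le ?_ ?_)
    · intro x hx
      rw [mem_comap, QuotientGroup.mk'_apply, (QuotientGroup.eq_one_iff x).2 hx]
      exact one_mem _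
    · exact le_comap_map _ _
  have h4 : Group.IsSolvable ↥((fittingSubgroup X).map (QuotientGroup.mk' (layer X))) :=
    Group.isSolvable_of_surjective (f := (QuotientGroup.mk' (layer X)).subgroupMap (fittingSubgroup X))
      ((QuotientGroup.mk' (layer X)).subgroupMap_surjective (fittingSubgroup X))
  have h5 : Group.IsSolvable ↥(K.map (QuotientGroup.mk' (layer X))) :=
    Group.isSolvable_of_isSolvable_injective (f := inclusion h3) (inclusion_injective h3)
  have h6 := Schreier.Basic.eq_bot_of_perfect_of_solvable
    (show ⁅K.map (QuotientGroup.mk' (layer X)), K.map (QuotientGroup.mk' (layer X))⁆ = K.map (QuotientGroup.mk' (layer X)) by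
      rw [← Subgroup.map_commutator, hK]) h5
  rw [Subgroup.map_eq_bot_iff, QuotientGroup.ker_mk'] at h6
  exact h6

universe u

/-- the components of the groups of the universe -/
theorem sch_comp (hS : Schreier.Cases.SchFor.{u} @IsKnownSimple') (hkn : CpAut.AllKnown.{u}) {C : Type u} [Group C]
    [Finite C] {L : Subgroup C} (hL : IsComponent L) : Sch (L ⧸ Subgroup.center L) := by
  have := hL.2.2
  exact hS _ (CpAut.Fix.not_comm_quot) (hkn _)

/-- **The perfect subgroups of the centraliser of an involution lie in the layer.** -/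
theorem perfect_le_layer (hS : Schreier.Cases.SchFor.{u} @IsKnownSimple') (hkn : CpAut.AllKnown.{u}) {p : ℕ}
    {C : Type u} [Group C] [Finite C] (hO : OC.OddCent p C) (hN : NComp C) {K : Subgroup C} (hK : ⁅K, K⁆ = K) :
    K ≤ layer C :=
  le_layer K hK (fun _ hL => sch_comp hS hkn hL) (fun L hL => hN L hL K hK) (hO.comm_fitting hK)

/-- the simple groups of Lie type of odd characteristic -/
theorem pLayer (hS : Schreier.Cases.SchFor.{u} @IsKnownSimple') (hkn : CpAut.AllKnown.{u}) {p : ℕ} (hp2 : p ≠ 2)
    {G : Type u} [Group G] [Finite G] [IsSimpleGroup G] (hG : IsLieTypeChar p G) {t : G} (ht : t * t = 1) :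
    H557.LrTor.PLayer (Subgroup.centralizer ({t} : Set G)) ∨ Lie.IsoRee G := by
  rcases NC.nComp_cent hp2 hG ht with ⟨h1, h2⟩ | h
  · left
    intro J hJ hJJ
    refine perfect_le_layer hS hkn h1 h2 ?_
    apply Subgroup.map_injective (Subgroup.subtype_injective _)
    rw [Subgroup.map_commutator, Subgroup.map_subgroupOf_eq_of_le hJ, hJJ]
  · exact Or.inr h

/-- from the number of components under the assumption `PLayer` to the row -/
theorem rowN_of_numLe (hS : Schreier.Cases.SchFor.{u} @IsKnownSimple') (hkn : CpAut.AllKnown.{u}) {p : ℕ} (hp2 : p ≠ 2)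
    {G : Type u} [Group G] [Finite G] [IsSimpleGroup G] (hG : IsLieTypeChar p G) {n : ℕ} (hn : 1 ≤ n)
    (h : ∀ t : G, t * t = 1 → t ≠ 1 → H557.LrOrb.NumLe n t) : RowN n G := by
  intro t ht
  have h1 : t * t = 1 := by rw [← pow_two, ← ht, pow_orderOf_eq_one]
  have h2 : t ≠ 1 := by
    intro h2
    rw [h2, orderOf_one] at ht
    omega
  rcases pLayer hS hkn hp2 hG h1 with h3 | h3
  · exact h t h1 h2 h3
  · exact (cb_of_hasOne (ree_cent h3 h1 h2)).mono hn

end Cfsg.Agent.H73.PLay
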