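import Mathlib
import Cfsg.Agent.H73.Count
import Cfsg.Agent.GTwoRows.Rows

/-!
# Components of the centralisers of involutions of `G₂(q)` and `³D₄(q)`, `q` odd (helper73)
-/

set_option autoImplicit false

namespace Cfsg.Agent.H73.HexRow

open Subgroup Cfsg Cfsg.Agent.GTwoRows Cfsg.Agent.GTwoRows.Hex
open Cfsg.Agent.Cit.HexBase Cfsg.Agent.Lib.SL2Mat

universe u

theorem le_of_derived_le {C : Type*} [Group C] {N : Subgroup C} (h : derivedSeries C 1 ≤ N) (L : Subgroup C)
    (hL : ⁅L, L⁆ = L) : L ≤ N := by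
  rw [derivedSeries_one] at h
  refine le_trans ?_ h
  calc L = ⁅L, L⁆ := hL.symm
    _ ≤ _ := commutator_mono le_top le_top

theorem cb_z {E : Type} [Field E] [Finite E] {σ : E ≃+* E} {L : Type u} [Group L] (c : HexGrp σ L) [Finite L]
    (h2 : (2 : E) ≠ 0) : CB 2 ↥(centralizer ({c.z} : Set L)) := by
  have := Fintype.ofFinite E
  have : Finite ↥(fx σ) := inferInstance
  have := Fintype.ofFinite ↥(fx σ)
  have h := cb_family (fac c) (fac_normal c h2) (fun b => ?_) (fun P hP => le_of_derived_le (derived_le c h2) P hP)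
  · simpa using h
  · cases b
    · have hle : c.K4 ≤ centralizer ({c.z} : Set L) := c.K4_le_CZ
      exact (sl_cases (fun h => h2 (congrArg Subtype.val h))
        (c.equivK4.trans (subgroupOfEquivOfLe hle).symm)).imp id fun h => h.1
    · have hle : c.K1 ≤ centralizer ({c.z} : Set L) := c.K1_le_CZ
      exact (sl_cases h2 ((c.equivK1 h2).trans (subgroupOfEquivOfLe hle).symm)).imp id fun h => h.1

theorem hexRow {E : Type} [Field E] [Finite E] {σ : E ≃+* E} {L : Type u} [Group L] (c : HexGrp σ L) [Finite L]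
    (h2 : (2 : E) ≠ 0) : RowN 2 L := by
  intro x hx
  have h1 : x ≠ 1 := by
    rintro rfl
    rw [orderOf_one] at hx
    omega
  have h3 : x * x = 1 := by
    have := pow_orderOf_eq_one x
    rwa [hx, sq] at this
  obtain ⟨g, hg⟩ := isConj_iff.1 (c.isConj_invol h2 c.z_sq (c.z_ne h2) h3 h1)
  rw [← hg]
  exact cb_cent_conj (cb_z c h2) g

theorem rowG2 {F : Type} [Field F] [Fintype F] (h2 : (2 : F) ≠ 0) {G : Type*} [Group G] [Finite G]
    (e : G ≃* ↥(Lie.chevG2.group F)) : RowN 2 G := by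
  have : Finite ↥(Lie.chevG2.group F) := Finite.of_equiv _ e.toEquiv
  exact (hexRow (Cit.HexG2.g2 F h2) h2).congr e.symm

theorem rowD4 {K : Type} [Field K] [Fintype K] {q : ℕ} (h2 : (2 : K) ≠ 0) (hK : Fintype.card K = q ^ 3)
    {G : Type*} [Group G] [Finite G] (e : G ≃* ↥(Lie.twistedD4 K q)) : RowN 2 G := by
  have : Finite ↥(Lie.twistedD4 K q) := Finite.of_equiv _ e.toEquiv
  obtain ⟨σ, -, ⟨c⟩⟩ := Cit.HexD4.exists_d4 hK
  exact (hexRow c h2).congr e.symm

end Cfsg.Agent.H73.HexRow
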