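import Mathlib
import Cfsg.Prelude.Def_Classification2
import Cfsg.Agent.H73.SporAll
import Cfsg.Agent.H73.AltRow
import Cfsg.Agent.H73.HexRow
import Cfsg.Agent.EvenType.ChevTwo
import Cfsg.Agent.OddHalf.Known
import Cfsg.Agent.Schreier.Assembly

/-!
# The number of components in the centralisers of involutions (S2137, helper73): the assembly
-/

set_option autoImplicit false

universe u

namespace Cfsg.Agent.H73.TwoComp

open Cfsg Subgroup

open Cfsg.Agent.Lib Cfsg.Agent.SignalizersComponents Cfsg.Agent.SignalizersComponents.Components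

/-- the families of Lie type: classical -/
structure Inp : Prop where
  psl : ∀ {p : ℕ}, p.Prime → p ≠ 2 → ∀ {G : Type u} [Group G] [Finite G] [IsSimpleGroup G], IsPSLChar p G → RowN 2 G
  psu : ∀ {p : ℕ}, p.Prime → p ≠ 2 → ∀ {G : Type u} [Group G] [Finite G] [IsSimpleGroup G], IsPSUChar p G → RowN 2 G
  psp : ∀ {p : ℕ}, p.Prime → p ≠ 2 → ∀ {G : Type u} [Group G] [Finite G] [IsSimpleGroup G], IsPSpChar p G → RowN 2 G
  orth : ∀ {p : ℕ}, p.Prime → p ≠ 2 → ∀ {G : Type u} [Group G] [Finite G] [IsSimpleGroup G],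
    IsPOmegaOddChar p G ∨ IsPOmegaPlusChar p G ∨ IsPOmegaMinusChar p G → RowN 4 G
  exc : ∀ (F : Type) [Field F] [Fintype F], (2 : F) ≠ 0 → ∀ {G : Type u} [Group G] [Finite G] [IsSimpleGroup G],
    Nonempty (G ≃* Lie.chevF4.group F) ∨ Nonempty (G ≃* Lie.chevE6.group F) ∨
      Nonempty (G ≃* Lie.chevE7.group F) ∨ Nonempty (G ≃* Lie.chevE8.group F) → RowN 2 G
  twE6 : ∀ (K : Type) [Field K] [Fintype K], (2 : K) ≠ 0 → ∀ (q : ℕ), IsPrimePow q → Fintype.card K = q ^ 2 →
    ∀ {G : Type u} [Group G] [Finite G] [IsSimpleGroup G], Nonempty (G ≃* Lie.twistedE6 K q) → RowN 2 G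

theorem two_ne {p : ℕ} (hp : p.Prime) (hp2 : p ≠ 2) (F : Type) [Field F] [CharP F p] : (2 : F) ≠ 0 := by
  have h := (CharP.cast_eq_zero_iff F p 2)
  intro h2
  have h3 : p ∣ 2 := h.1 (by exact_mod_cast h2)
  exact hp2 ((Nat.prime_dvd_prime_iff_eq hp Nat.prime_two).1 h3)

/-- odd Lie type, not orthogonal or orthogonal -/
theorem Inp.row (I : Inp.{u}) {p : ℕ} (hp : p.Prime) (hp2 : p ≠ 2) {G : Type u} [Group G] [Finite G]
    [IsSimpleGroup G] (h : IsLieTypeChar p G) :
    RowN 2 G ∨ ((IsPOmegaOddChar p G ∨ IsPOmegaPlusChar p G ∨ IsPOmegaMinusChar p G) ∧ RowN 4 G) := by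
  rcases h with h | h | h | h | h | h | ⟨F, _, _, _, h⟩ | ⟨K, _, _, _, q, hq, h⟩ | h | h | h
  · exact Or.inl (I.psl hp hp2 h)
  · exact Or.inl (I.psp hp hp2 h)
  · exact Or.inl (I.psu hp hp2 h)
  · exact Or.inr ⟨Or.inl h, I.orth hp hp2 (Or.inl h)⟩
  · exact Or.inr ⟨Or.inr (Or.inl h), I.orth hp hp2 (Or.inr (Or.inl h))⟩
  · exact Or.inr ⟨Or.inr (Or.inr h), I.orth hp hp2 (Or.inr (Or.inr h))⟩
  · left
    rcases h with ⟨-, ⟨e⟩⟩ | h
    · exact HexRow.rowG2 (two_ne hp hp2 F) e
    · exact I.exc F (two_ne hp hp2 F) h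
  · left
    rcases h with ⟨hK, h⟩ | ⟨hK, ⟨e⟩⟩
    · exact I.twE6 K (two_ne hp hp2 K) q hq hK h
    · exact HexRow.rowD4 (two_ne hp hp2 K) hK e
  · exact absurd h.1 hp2
  · exact absurd h.1 hp2
  · left
    intro t ht
    have h1 : t * t = 1 := by rw [← pow_two, ← ht, pow_orderOf_eq_one]
    have h2 : t ≠ 1 := by
      intro h2
      rw [h2, orderOf_one] at ht
      omega
    exact (cb_of_hasOne (ree_cent h.2 h1 h2)).mono (by norm_num)

theorem layer_of_le_one {C : Type*} [Group C] [Finite C] (h : {K : Subgroup C | IsComponent K}.ncard ≤ 1) :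
    layer C = ⊥ ∨ IsQuasisimple ↥(layer C) := by
  by_cases h0 : ∀ K : Subgroup C, ¬ IsComponent K
  · exact Or.inl (Red.layer_eq_bot_iff.2 h0)
  · right
    push Not at h0
    obtain ⟨K, hK⟩ := h0
    have h1 : ∀ L : Subgroup C, IsComponent L → L = K := by
      intro L hL
      exact Set.ncard_le_one_iff (Set.toFinite _) |>.1 h hL hK
    have h2 : layer C = K := by
      apply le_antisymm
      · exact layer_le_iff.2 fun L hL => (h1 L hL).le
      · exact component_le_layer hK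
    rw [h2]
    exact hK.2

theorem main (I : Inp.{u}) (hS0 : Schreier.Cases.SchFor.{0} @IsKnownSimple') (hkn0 : CpAut.AllKnown.{0})
    (hSu : Schreier.Cases.SchFor.{u} @IsKnownSimple')
    {X : Type u} [Group X] [Finite X] (hs : IsSimpleGroup ↥(generalizedFittingSubgroup X))
    (hna : ¬ IsMulCommutative ↥(generalizedFittingSubgroup X))
    (hK : IsKnownSimple' ↥(generalizedFittingSubgroup X)) (t : X) (ht : orderOf t = 2)
    (htY : t ∈ generalizedFittingSubgroup X) :
    layer ↥(centralizer ({t} : Set X)) = ⊥ ∨ IsQuasisimple ↥(layer ↥(centralizer ({t} : Set X))) ∨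
      ((∃ p : ℕ, p.Prime ∧ p ≠ 2 ∧ IsLieTypeChar p ↥(generalizedFittingSubgroup X)) ∧
        {K : Subgroup ↥(centralizer ({t} : Set X)) | IsComponent K}.ncard = 2) ∨
      ((∃ p : ℕ, p.Prime ∧ p ≠ 2 ∧ (IsPOmegaOddChar p ↥(generalizedFittingSubgroup X) ∨
        IsPOmegaPlusChar p ↥(generalizedFittingSubgroup X) ∨
        IsPOmegaMinusChar p ↥(generalizedFittingSubgroup X))) ∧
        ({K : Subgroup ↥(centralizer ({t} : Set X)) | IsComponent K}.ncard = 3 ∨
        {K : Subgroup ↥(centralizer ({t} : Set X)) | IsComponent K}.ncard = 4)) := by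
  have hn : (generalizedFittingSubgroup X).Normal := GenFitting.genFitting_normal
  have hp : ∀ D : Subgroup X, ⁅D, D⁆ = D → D ≤ generalizedFittingSubgroup X :=
    fun _ hD => Red.perfect_le (hSu _ hna hK) hD
  have ht' : orderOf (⟨t, htY⟩ : ↥(generalizedFittingSubgroup X)) = 2 := by
    rw [← Subgroup.orderOf_coe]
    exact ht
  have hcard := Red.ncard_component hp htY
  have one : RowN 1 ↥(generalizedFittingSubgroup X) →
      layer ↥(centralizer ({t} : Set X)) = ⊥ ∨ IsQuasisimple ↥(layer ↥(centralizer ({t} : Set X))) := by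
    intro h
    apply layer_of_le_one
    rw [hcard]
    exact h _ ht'
  rcases OddHalf.Known.classify hna hK with h | ⟨p, hpp, hp2, hG⟩ | h | h
  · obtain ⟨n, -, ⟨e⟩⟩ := h
    rcases one ((AltRow.row n).congr e.symm) with h | h
    · exact Or.inl h
    · exact Or.inr (Or.inl h)
  · rcases I.row hpp hp2 hG with h | ⟨h1, h⟩
    · have h2 := h _ ht'
      rw [← hcard] at h2
      rcases Nat.lt_or_ge {K : Subgroup ↥(centralizer ({t} : Set X)) | IsComponent K}.ncard 2 with h3 | h3
      · rcases layer_of_le_one (Nat.lt_succ_iff.1 h3) with h | h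
        · exact Or.inl h
        · exact Or.inr (Or.inl h)
      · exact Or.inr (Or.inr (Or.inl ⟨⟨p, hpp, hp2, hG⟩, le_antisymm h2 h3⟩))
    · have h2 := h _ ht'
      rw [← hcard] at h2
      rcases Nat.lt_or_ge {K : Subgroup ↥(centralizer ({t} : Set X)) | IsComponent K}.ncard 2 with h3 | h3
      · rcases layer_of_le_one (Nat.lt_succ_iff.1 h3) with h | h
        · exact Or.inl h
        · exact Or.inr (Or.inl h)
      · rcases Nat.lt_or_ge {K : Subgroup ↥(centralizer ({t} : Set X)) | IsComponent K}.ncard 3 with h4 | h4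
        · exact Or.inr (Or.inr (Or.inl ⟨⟨p, hpp, hp2, hG⟩, by omega⟩))
        · exact Or.inr (Or.inr (Or.inr ⟨⟨p, hpp, hp2, h1⟩, by omega⟩))
  · have h1 : RowN 1 ↥(generalizedFittingSubgroup X) := by
      apply Row1.rowN
      apply Row1.of_charTwo
      apply EvenType.ChevTwo.charTwo hna
      rcases h with h | h
      · exact Or.inl h
      · exact Or.inr (Or.inl ⟨rfl, Or.inr (Or.inr h)⟩)
    rcases one h1 with h | h
    · exact Or.inl h
    · exact Or.inr (Or.inl h)
  · rcases one (Spo.all hS0 hkn0 h).rowN with h | h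
    · exact Or.inl h
    · exact Or.inr (Or.inl h)

end Cfsg.Agent.H73.TwoComp
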