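import Mathlib
import Cfsg.Agent.H73.TwoComp
import Cfsg.Agent.H65.CN.Rows

/-!
# The number of components in the centralisers of involutions (S2137, helper73): the classical rows (helper65)
-/

set_option autoImplicit false

universe u

namespace Cfsg.Agent.H73.TwoComp

open Cfsg Subgroup

/-- the open rows: `F₄`, `E₆`, `E₇`, `E₈` -/
def Exc : Prop :=
  ∀ (F : Type) [Field F] [Fintype F], (2 : F) ≠ 0 → ∀ {G : Type u} [Group G] [Finite G] [IsSimpleGroup G],
    Nonempty (G ≃* Lie.chevF4.group F) ∨ Nonempty (G ≃* Lie.chevE6.group F) ∨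
      Nonempty (G ≃* Lie.chevE7.group F) ∨ Nonempty (G ≃* Lie.chevE8.group F) → RowN 2 G

/-- the open row `²E₆` -/
def TwE6 : Prop :=
  ∀ (K : Type) [Field K] [Fintype K], (2 : K) ≠ 0 → ∀ (q : ℕ), IsPrimePow q → Fintype.card K = q ^ 2 →
    ∀ {G : Type u} [Group G] [Finite G] [IsSimpleGroup G], Nonempty (G ≃* Lie.twistedE6 K q) → RowN 2 G

theorem inp_of (h1 : Exc.{u}) (h2 : TwE6.{u}) : Inp.{u} := by
  refine ⟨?_, ?_, ?_, ?_, h1, h2⟩
  · intro p hp hp2 G _ _ _ h t ht
    exact H65.CN.lin hp hp2 h t ht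
  · intro p hp hp2 G _ _ _ h t ht
    exact H65.CN.unitary hp hp2 h t ht
  · intro p hp hp2 G _ _ _ h t ht
    exact H65.CN.sympl hp hp2 h t ht
  · intro p hp hp2 G _ _ _ h t ht
    rcases h with h | h | h
    · exact H65.CN.orthOdd hp hp2 h t ht
    · exact H65.CN.orthPlus hp hp2 h t ht
    · exact H65.CN.orthMinus hp hp2 h t ht

end Cfsg.Agent.H73.TwoComp
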