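import Mathlib
import Cfsg.Agent.H73.TwoCompB
import Cfsg.Agent.H73.PLay
import Cfsg.Agent.H557.LrFam
import Cfsg.Agent.H557.LrTwE
import Cfsg.Agent.H557.LrE7

/-!
# The number of components in the centralisers of involutions (S2137, helper73): the exceptional rows

From `H557.Lr*` (helper557).
-/

set_option autoImplicit false

universe u

namespace Cfsg.Agent.H73.ExcRow

open Cfsg Subgroup

/-- the model -/
theorem row_of_model (hS : Schreier.Cases.SchFor.{0} @IsKnownSimple') (hkn : CpAut.AllKnown.{0}) {p : ℕ}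
    (hp2 : p ≠ 2) {M : Type} [Group M] {G : Type u} [Group G] [Finite G] [IsSimpleGroup G] (e : G ≃* M)
    (hM : IsLieTypeChar p M) (h : ∀ t : M, t * t = 1 → t ≠ 1 → H557.LrOrb.NumLe 2 t) : RowN 2 G := by
  have h1 : Finite M := Finite.of_equiv G e.toEquiv
  have h3 : Nontrivial M := e.symm.toEquiv.nontrivial
  have h2 : IsSimpleGroup M := IsSimpleGroup.isSimpleGroup_of_surjective e.toMonoidHom e.surjective
  exact (PLay.rowN_of_numLe hS hkn hp2 hM (by norm_num) h).congr e.symm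

theorem odd_card {F : Type*} [Field F] [Fintype F] (h2 : (2 : F) ≠ 0) : Odd (Fintype.card F) := by
  obtain ⟨p, hp⟩ := CharP.exists F
  have hpp : p.Prime := (CharP.char_is_prime_or_zero F p).resolve_right (CharP.char_ne_zero_of_finite F p)
  obtain ⟨n, -, hn⟩ := FiniteField.card F p
  rw [hn]
  refine Odd.pow ?_
  refine hpp.odd_of_ne_two ?_
  rintro rfl
  apply h2
  exact_mod_cast (CharP.cast_eq_zero F 2)

theorem char_ne {F : Type*} [Field F] {p : ℕ} [CharP F p] (h2 : (2 : F) ≠ 0) : p ≠ 2 := by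
  rintro rfl
  apply h2
  exact_mod_cast (CharP.cast_eq_zero F 2)

theorem exc (hS : Schreier.Cases.SchFor.{0} @IsKnownSimple') (hkn : CpAut.AllKnown.{0}) : TwoComp.Exc.{u} := by
  intro F _ _ h2 G _ _ _ h
  obtain ⟨p, hp⟩ := CharP.exists F
  have hp2 : p ≠ 2 := char_ne h2
  have ho := odd_card h2
  rcases h with ⟨⟨e⟩⟩ | ⟨⟨e⟩⟩ | ⟨⟨e⟩⟩ | ⟨⟨e⟩⟩
  · exact row_of_model hS hkn hp2 e (Or.inr (Or.inr (Or.inr (Or.inr (Or.inr (Or.inr (Or.inl
      ⟨F, inferInstance, inferInstance, hp, Or.inr (Or.inl ⟨MulEquiv.refl _⟩)⟩)))))))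
      fun t ht h1 => H557.LrFam.numLe_F4 F ho ht h1
  · exact row_of_model hS hkn hp2 e (Or.inr (Or.inr (Or.inr (Or.inr (Or.inr (Or.inr (Or.inl
      ⟨F, inferInstance, inferInstance, hp, Or.inr (Or.inr (Or.inl ⟨MulEquiv.refl _⟩))⟩)))))))
      fun t ht h1 => H557.LrFam.numLe_E6 F ho ht h1
  · exact row_of_model hS hkn hp2 e (Or.inr (Or.inr (Or.inr (Or.inr (Or.inr (Or.inr (Or.inl
      ⟨F, inferInstance, inferInstance, hp, Or.inr (Or.inr (Or.inr (Or.inl ⟨MulEquiv.refl _⟩)))⟩)))))))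
      fun t ht h1 => H557.LrE7.numLe_E7 F ho ht h1
  · exact row_of_model hS hkn hp2 e (Or.inr (Or.inr (Or.inr (Or.inr (Or.inr (Or.inr (Or.inl
      ⟨F, inferInstance, inferInstance, hp, Or.inr (Or.inr (Or.inr (Or.inr ⟨MulEquiv.refl _⟩)))⟩)))))))
      fun t ht h1 => H557.LrFam.numLe_E8 F ho ht h1

theorem twE6 (hS : Schreier.Cases.SchFor.{0} @IsKnownSimple') (hkn : CpAut.AllKnown.{0}) : TwoComp.TwE6.{u} := by
  intro K _ _ h2 q hq hK G _ _ _ ⟨e⟩
  obtain ⟨p, hp⟩ := CharP.exists K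
  have hp2 : p ≠ 2 := char_ne h2
  have ho := odd_card h2
  rw [hK] at ho
  have hoq : Odd q := by
    rcases Nat.even_or_odd q with h | h
    · exfalso
      have h3 : Even (q ^ 2) := by
        rw [Nat.even_pow]
        exact ⟨h, by norm_num⟩
      exact (Nat.not_even_iff_odd.2 ho) h3
    · exact h
  refine row_of_model hS hkn hp2 e (Or.inr (Or.inr (Or.inr (Or.inr (Or.inr (Or.inr (Or.inr (Or.inl
      ⟨K, inferInstance, inferInstance, hp, q, hq, Or.inl ⟨hK, ⟨MulEquiv.refl _⟩⟩⟩))))))))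
      fun t ht h1 => H557.LrTwE.numLe_twE6 K q hq hoq hK ht h1

end Cfsg.Agent.H73.ExcRow
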