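import Mathlib
import Cfsg.Prelude.Def_Classification2
import Cfsg.Agent.H73.SporAll
import Cfsg.Agent.H73.Lay
import Cfsg.Agent.EvenType.ChevTwo
import Cfsg.Agent.OddHalf.Known
import Cfsg.Agent.BpTwo.Two
import Cfsg.Agent.Schreier.Assembly

/-!
# Centralisers of involutions modulo the layer (S2138, helper73)
-/

set_option autoImplicit false

universe u

namespace Cfsg.Agent.H73

open Cfsg Subgroup

open Cfsg.Agent.Lib Cfsg.Agent.SignalizersComponents Cfsg.Agent.SignalizersComponents.Components

theorem modLayer (hS0 : Schreier.Cases.SchFor.{0} @IsKnownSimple') (hkn0 : CpAut.AllKnown.{0})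
    (hSu : Schreier.Cases.SchFor.{u} @IsKnownSimple') (hkn : CpAut.AllKnown.{u})
    {X : Type u} [Group X] [Finite X] (hs : IsSimpleGroup ↥(generalizedFittingSubgroup X))
    (hna : ¬ IsMulCommutative ↥(generalizedFittingSubgroup X))
    (hK : IsKnownSimple' ↥(generalizedFittingSubgroup X)) (t : X) (ht : orderOf t = 2)
    (htY : t ∈ generalizedFittingSubgroup X) (hL : layer ↥(centralizer ({t} : Set X)) ≠ ⊥) :
    (∃ _ : (layer ↥(centralizer ({t} : Set X))).Normal,
      Group.IsSolvable (↥(centralizer ({t} : Set X)) ⧸ layer ↥(centralizer ({t} : Set X)))) ∨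
      IsAlternating ↥(generalizedFittingSubgroup X) := by
  have hn : (generalizedFittingSubgroup X).Normal := GenFitting.genFitting_normal
  have hp : ∀ D : Subgroup X, ⁅D, D⁆ = D → D ≤ generalizedFittingSubgroup X :=
    fun _ hD => Red.perfect_le (hSu _ hna hK) hD
  have ht' : orderOf (⟨t, htY⟩ : ↥(generalizedFittingSubgroup X)) = 2 := by
    rw [← Subgroup.orderOf_coe]
    exact ht
  have key : PLay ↥(centralizer ({(⟨t, htY⟩ : ↥(generalizedFittingSubgroup X))} :
      Set ↥(generalizedFittingSubgroup X))) →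
      (∃ _ : (layer ↥(centralizer ({t} : Set X))).Normal,
      Group.IsSolvable (↥(centralizer ({t} : Set X)) ⧸ layer ↥(centralizer ({t} : Set X)))) :=
    fun h => ⟨layer_normal _, (Red.pLay hp htY h).isSolvable _⟩
  have row : Row1 ↥(generalizedFittingSubgroup X) → (∃ _ : (layer ↥(centralizer ({t} : Set X))).Normal,
      Group.IsSolvable (↥(centralizer ({t} : Set X)) ⧸ layer ↥(centralizer ({t} : Set X)))) := by
    intro h
    rcases h _ ht' with h | h
    · exfalso
      apply hL
      rw [Red.layer_eq_bot_iff]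
      intro K hK
      obtain ⟨K', hK', -⟩ := (Red.component_iff hp htY).1 hK
      exact h K' hK'
    · exact key h.pLay
  rcases OddHalf.Known.classify hna hK with h | ⟨p, -, hp2, hG⟩ | h | h
  · exact Or.inr h
  · left
    apply key
    have h1 : (⟨t, htY⟩ : ↥(generalizedFittingSubgroup X)) * ⟨t, htY⟩ = 1 := by
      rw [← pow_two, ← ht', pow_orderOf_eq_one]
    have h2 : (⟨t, htY⟩ : ↥(generalizedFittingSubgroup X)) ≠ 1 := by
      intro h2
      rw [h2, orderOf_one] at ht'
      omega
    exact pLay_lie hp2 hG h1 h2 fun K hK => BpTwo.sch_component hSu (fun Z _ _ _ => hkn Z) K hK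
  · left
    apply row
    apply Row1.of_charTwo
    apply EvenType.ChevTwo.charTwo hna
    rcases h with h | h
    · exact Or.inl h
    · exact Or.inr (Or.inl ⟨rfl, Or.inr (Or.inr h)⟩)
  · left
    exact row (Spo.all hS0 hkn0 h)

end Cfsg.Agent.H73
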